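import Cfsg.Agent.H643.Sd.Def
import Cfsg.Agent.S4625
import Cfsg.Agent.S4629
import Cfsg.Agent.S4630
import Cfsg.Agent.S4631
import Cfsg.Agent.H974.LieSimple

/-!
# S4579, part CL-OM: `Elem` for the orthogonal groups (helper900)

The simple orthogonal groups: `elem_omega_odd`, `elem_omega_plus`, `elem_omega_minus`
(from S4629, S4630, S4631, in characteristic two S4625).
-/

set_option autoImplicit false

namespace Cfsg.Agent.H900.Sd

open Cfsg Cfsg.Agent.H643.Sd

/-- `Lin2` from the squares. -/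
theorem lin2_of_sq {P : Type*} [Group P] (h : ∀ x : P, x ^ 2 ∈ commutator P) : Lin2 P := by
  intro f x
  have h1 : commutator P ≤ f.ker := Abelianization.commutator_subset_ker f
  have h2 : f (x ^ 2) = 1 := h1 (h x)
  rwa [map_pow] at h2

theorem elem_of_sq {G : Type*} [Group G]
    (h : ∀ (P : Sylow 2 G) (x : (P : Subgroup G)), x ^ 2 ∈ commutator (P : Subgroup G)) : Elem G :=
  fun P => lin2_of_sq (h P)

/-- `Elem` passes to epimorphic images. -/
theorem elem_of_surjective {G H : Type*} [Group G] [Group H] [Finite G] (φ : G →* H)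
    (hφ : Function.Surjective φ) (h : Elem G) : Elem H := by
  have : Fact (Nat.Prime 2) := ⟨Nat.prime_two⟩
  intro R
  obtain ⟨P, hP⟩ := Sylow.mapSurjective_surjective hφ 2 R
  intro f x
  have hx : (x : H) ∈ (P.mapSurjective hφ : Subgroup H) := by
    rw [hP]
    exact x.2
  rw [Sylow.coe_mapSurjective] at hx
  have hle : ∀ y ∈ (P : Subgroup G), φ y ∈ (R : Subgroup H) := by
    intro y hy
    rw [← hP, Sylow.coe_mapSurjective]
    exact ⟨y, hy, rfl⟩
  obtain ⟨y, hy, hyx⟩ := hx
  let g : (P : Subgroup G) →* (R : Subgroup H) :=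
    (φ.comp (P : Subgroup G).subtype).codRestrict _ (fun z => hle z z.2)
  have h1 := h P (f.comp g) ⟨y, hy⟩
  have h2 : g ⟨y, hy⟩ = x := Subtype.ext hyx
  rwa [MonoidHom.comp_apply, h2] at h1

/-- `Elem` for a group isomorphic to the central quotient. -/
theorem elem_of_quotient {G H : Type*} [Group G] [Group H] [Finite G] (N : Subgroup G) [N.Normal]
    (e : H ≃* G ⧸ N) (h : Elem G) : Elem H := by
  refine elem_of_surjective (e.symm.toMonoidHom.comp (QuotientGroup.mk' N)) ?_ h
  exact e.symm.surjective.comp (QuotientGroup.mk'_surjective N)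

theorem charP_two_of_even {F : Type} [Field F] [Fintype F] (h : ¬ Odd (Fintype.card F)) : CharP F 2 := by
  rw [Nat.not_odd_iff_even] at h
  obtain ⟨p, hp⟩ := CharP.exists F
  obtain ⟨n, hp1, hn⟩ := FiniteField.card F p
  rw [hn] at h
  have h2 : Even p := (Nat.even_pow.1 h).1
  have h3 : p = 2 := hp1.even_iff.1 h2
  exact h3 ▸ hp

theorem elem_omega_odd {S : Type*} [Group S] [Finite S] (h : Cfsg.IsPOmegaOdd S) : Elem S := by
  obtain ⟨F, _, _, m, hm, ho, ⟨e⟩⟩ := h
  exact elem_of_quotient _ e (elem_of_sq (Cfsg.Agent.S4629.result ho m hm))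

theorem elem_omega_plus {S : Type*} [Group S] [Finite S] (h : Cfsg.IsPOmegaPlus S) : Elem S := by
  obtain ⟨F, _, _, m, hm, ⟨e⟩⟩ := h
  by_cases ho : Odd (Fintype.card F)
  · exact elem_of_quotient _ e
      (elem_of_sq (Cfsg.Agent.S4630.result ho m (by omega) (Or.inr hm)))
  · have := charP_two_of_even ho
    have h1 : Cfsg.IsPOmegaPlusChar 2 S := ⟨F, inferInstance, inferInstance, this, m, hm, ⟨e⟩⟩
    have : IsSimpleGroup S := Cfsg.Agent.H974.LieSimple.of_plus h1
    exact elem_of_sq (Cfsg.Agent.S4625.result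
      (Or.inr (Or.inr (Or.inr (Or.inr (Or.inl h1))))))

theorem elem_omega_minus {S : Type*} [Group S] [Finite S] (h : Cfsg.IsPOmegaMinus S) : Elem S := by
  obtain ⟨F, _, _, m, a, b, hm, hab, ⟨e⟩⟩ := h
  by_cases ho : Odd (Fintype.card F)
  · exact elem_of_quotient _ e (elem_of_sq (Cfsg.Agent.S4631.result ho m hm a b hab))
  · have := charP_two_of_even ho
    have h1 : Cfsg.IsPOmegaMinusChar 2 S := ⟨F, inferInstance, inferInstance, this, m, a, b, hm, hab, ⟨e⟩⟩
    have : IsSimpleGroup S := Cfsg.Agent.H974.LieSimple.of_minus h1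
    exact elem_of_sq (Cfsg.Agent.S4625.result
      (Or.inr (Or.inr (Or.inr (Or.inr (Or.inr (Or.inl h1)))))))

end Cfsg.Agent.H900.Sd
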